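import Mathlib

/-!
Rational functions on `ZMod p` seen through one nontrivial character, and matrices commuting with a permutation
that has two regular orbits.
-/

set_option autoImplicit false

namespace Cfsg.Lib.PermGroups.TwicePrime

open Finset Matrix

variable {p : ℕ} [Fact p.Prime]

/-- A fixed primitive root of unity. -/
noncomputable def zeta (p : ℕ) [Fact p.Prime] : ℂ :=
  (HasEnoughRootsOfUnity.exists_primitiveRoot ℂ p).choose

theorem zeta_spec : IsPrimitiveRoot (zeta p) p :=
  (HasEnoughRootsOfUnity.exists_primitiveRoot ℂ p).choose_spec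

/-- The nontrivial character. -/
noncomputable def chi (d : ZMod p) : ℂ := zeta p ^ d.val

theorem chi_add (a b : ZMod p) : chi (a + b) = chi a * chi b := by
  rw [chi, chi, chi, ← pow_add, ZMod.val_add]
  exact (pow_eq_pow_mod _ zeta_spec.pow_eq_one).symm

theorem chi_zero : chi (0 : ZMod p) = 1 := by simp [chi]

/-- The transform of a rational function. -/
noncomputable def hat (f : ZMod p → ℚ) : ℂ := ∑ d, (f d : ℂ) * chi d

theorem hat_add (f g : ZMod p → ℚ) : hat (f + g) = hat f + hat g := by
  simp [hat, add_mul, sum_add_distrib]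

theorem hat_smul (c : ℚ) (f : ZMod p → ℚ) : hat (c • f) = (c : ℂ) * hat f := by
  simp [hat, mul_sum, mul_assoc]

theorem hat_sub (f g : ZMod p → ℚ) : hat (f - g) = hat f - hat g := by
  simp [hat, sub_mul, sum_sub_distrib]

/-- The function concentrated at zero. -/
def dlt (c : ℚ) : ZMod p → ℚ := fun d => if d = 0 then c else 0

theorem hat_dlt (c : ℚ) : hat (dlt c : ZMod p → ℚ) = (c : ℂ) := by
  simp [hat, dlt, apply_ite, ite_mul, chi_zero]

/-- Convolution. -/
def conv (f g : ZMod p → ℚ) : ZMod p → ℚ := fun c => ∑ b, f b * g (c - b)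

theorem hat_conv (f g : ZMod p → ℚ) : hat (conv f g) = hat f * hat g := by
  simp only [hat, conv, Rat.cast_sum, Rat.cast_mul, sum_mul]
  rw [sum_comm]
  refine sum_congr rfl fun b _ => ?_
  rw [mul_sum]
  refine Fintype.sum_equiv (Equiv.subRight b) _ _ fun c => ?_
  rw [Equiv.subRight_apply]
  conv_lhs => rw [← add_sub_cancel b c, chi_add]
  rw [add_sub_cancel]
  ring

/-- A rational function killed by the character is constant. -/
theorem const_of_hat {f : ZMod p → ℚ} (h : hat f = 0) (d : ZMod p) : f d = f 0 := by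
  have hp : p.Prime := Fact.out
  let P : Polynomial ℚ := ∑ d : ZMod p, Polynomial.monomial d.val (f d)
  have hc : ∀ d : ZMod p, P.coeff d.val = f d := fun d => by
    simp only [P, Polynomial.finsetSum_coeff, Polynomial.coeff_monomial]
    rw [sum_eq_single d]
    · simp
    · intro b _ hb
      rw [if_neg fun e => hb (ZMod.val_injective p e)]
    · simp
  have haev : Polynomial.aeval (zeta p) P = 0 := by
    rw [← h]
    simp [P, hat, chi, Polynomial.aeval_monomial]
  have hdvd : Polynomial.cyclotomic p ℚ ∣ P := by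
    rw [Polynomial.cyclotomic_eq_minpoly_rat zeta_spec hp.pos]
    exact minpoly.dvd ℚ _ haev
  obtain ⟨R, hR⟩ := hdvd
  have hdeg : P.natDegree ≤ p - 1 :=
    Polynomial.natDegree_sum_le_of_forall_le _ _ fun d _ =>
      (Polynomial.natDegree_monomial_le _).trans (Nat.le_sub_one_of_lt (ZMod.val_lt d))
  have key : P = Polynomial.cyclotomic p ℚ * Polynomial.C (R.coeff 0) := by
    by_cases hR0 : R = 0
    · simp [hR, hR0]
    · have : R.natDegree = 0 := by
        have h1 := Polynomial.natDegree_mul (Polynomial.cyclotomic_ne_zero p ℚ) hR0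
        rw [← hR, Polynomial.natDegree_cyclotomic, Nat.totient_prime hp] at h1
        omega
      rw [hR, ← Polynomial.eq_C_of_natDegree_eq_zero this]
  have hc' : ∀ d : ZMod p, f d = R.coeff 0 := fun d => by
    rw [← hc d, key, Polynomial.coeff_mul_C, Polynomial.cyclotomic_prime, Polynomial.finsetSum_coeff]
    rw [sum_eq_single d.val]
    · simp
    · intro b _ hb
      simp [Polynomial.coeff_X_pow, hb.symm]
    · intro hd
      exact absurd (mem_range.2 (ZMod.val_lt d)) hd
  rw [hc', hc']

/-- Two rational functions with the same transform differ by a constant. -/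
theorem diff_of_hat {f g : ZMod p → ℚ} (h : hat f = hat g) (d : ZMod p) : f d - g d = f 0 - g 0 :=
  const_of_hat (f := f - g) (by rw [hat_sub, h, sub_self]) d

/-- Two rational functions with the same transform and the same total are equal. -/
theorem eq_of_hat {f g : ZMod p → ℚ} (h : hat f = hat g) (hs : ∑ d, f d = ∑ d, g d) : f 0 = g 0 := by
  have h1 : ∑ d, (f d - g d) = 0 := by rw [sum_sub_distrib, hs, sub_self]
  rw [sum_congr rfl fun d _ => diff_of_hat h d, sum_const, card_univ, ZMod.card, nsmul_eq_mul, mul_eq_zero] at h1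
  exact sub_eq_zero.1 (h1.resolve_left (by exact_mod_cast (Fact.out : p.Prime).ne_zero))

/-! Two by two matrices -/

theorem trace_mul_of_parallel {K : Type*} [CommRing K] (A : Matrix (Fin 2) (Fin 2) K) (hA : A.det = 0) (c c' : K) :
    ((c • A) * (c' • A)).trace = (c • A).trace * (c' • A).trace := by
  rw [det_fin_two] at hA
  simp only [trace_fin_two, mul_apply, Fin.sum_univ_two, Matrix.smul_apply, smul_eq_mul]
  linear_combination (-2 * c * c') * hA

theorem exists_eq_smul_adjugate {K : Type*} [Field K] {S X : Matrix (Fin 2) (Fin 2) K} (hd : S.det = 0)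
    (hS : S ≠ 0) (h1 : X * S = 0) (h2 : S * X = 0) : ∃ c : K, X = c • S.adjugate := by
  rw [det_fin_two] at hd
  have e1 : ∀ i j, X i 0 * S 0 j + X i 1 * S 1 j = 0 := fun i j => by
    simpa [mul_apply, Fin.sum_univ_two] using congrFun (congrFun h1 i) j
  have e2 : ∀ i j, S i 0 * X 0 j + S i 1 * X 1 j = 0 := fun i j => by
    simpa [mul_apply, Fin.sum_univ_two] using congrFun (congrFun h2 i) j
  have a00 := e1 0 0; have a01 := e1 0 1; have a10 := e1 1 0; have a11 := e1 1 1
  have b00 := e2 0 0; have b01 := e2 0 1; have b10 := e2 1 0; have b11 := e2 1 1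
  have hex : S 0 0 ≠ 0 ∨ S 0 1 ≠ 0 ∨ S 1 0 ≠ 0 ∨ S 1 1 ≠ 0 := by
    by_contra! hc
    refine hS ?_
    ext i j
    fin_cases i <;> fin_cases j <;> simp_all
  rw [adjugate_fin_two]
  rcases hex with h | h | h | h
  · refine ⟨X 1 1 / S 0 0, ?_⟩
    ext i j
    fin_cases i <;> fin_cases j <;> simp <;> field_simp <;> grind
  · refine ⟨- X 0 1 / S 0 1, ?_⟩
    ext i j
    fin_cases i <;> fin_cases j <;> simp <;> field_simp <;> grind
  · refine ⟨- X 1 0 / S 1 0, ?_⟩
    ext i j
    fin_cases i <;> fin_cases j <;> simp <;> field_simp <;> grind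
  · refine ⟨X 0 0 / S 1 1, ?_⟩
    ext i j
    fin_cases i <;> fin_cases j <;> simp <;> field_simp <;> grind

end Cfsg.Lib.PermGroups.TwicePrime
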