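import Cfsg.Agent.PermGroups.TwicePrime.Orbitals

/-!
Wielandt's theorem on primitive groups of degree `2 p`, by one character of the cyclic subgroup.
-/

set_option autoImplicit false
set_option linter.unusedSectionVars false
set_option maxHeartbeats 800000

namespace Cfsg.Lib.PermGroups.TwicePrime

open Finset Matrix
open scoped Classical

variable {G : Type*} [Group G] [Fintype G] {α : Type*} [Fintype α] [DecidableEq α] [MulAction G α]
  {p : ℕ} [Fact p.Prime] (C : Cyc G α p)

include C in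
theorem Cyc.card_eq : Fintype.card α = 2 * p := by
  rw [← Fintype.card_congr C.e, Fintype.card_prod, Fintype.card_fin, ZMod.card]

theorem Cyc.ne_one_zero : C.e (1, 0) ≠ C.e (0, 0) := fun h => by simpa using C.e.injective h

theorem one_ne_zero' : (1 : ZMod p) ≠ 0 := one_ne_zero

/-- A single orbital off the diagonal gives double transitivity. -/
theorem Cyc.two_trans [MulAction.IsPretransitive G α] {b : α} (hb : b ≠ C.e (0, 0))
    (h : ∀ v, v ≠ C.e (0, 0) → C.R b (C.e (0, 0)) v) : MulAction.IsMultiplyPretransitive G α 2 := by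
  rw [MulAction.is_two_pretransitive_iff]
  have key : ∀ u v : α, u ≠ v → C.R b u v := fun u v huv => by
    obtain ⟨g, hg⟩ := MulAction.exists_smul_eq G u (C.e (0, 0))
    rw [← C.R_smul g, hg]
    exact h _ fun e => huv (MulAction.injective g (hg.trans e.symm))
  intro a b' c d hab hcd
  obtain ⟨g, h1, h2⟩ := key a b' hab
  obtain ⟨g', h1', h2'⟩ := key c d hcd
  exact ⟨g' * g⁻¹, by rw [← h1, mul_smul, inv_smul_smul, h1'], by rw [← h2, mul_smul, inv_smul_smul, h2']⟩

/-- The two cycles are not blocks. -/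
theorem Cyc.not_same (hprim : MulAction.IsPreprimitive G α)
    (hinv : ∀ (g : G) u v, (C.e.symm u).1 = (C.e.symm v).1 → (C.e.symm (g • u)).1 = (C.e.symm (g • v)).1) :
    False := by
  rcases rel_trivial hprim (fun u v => (C.e.symm u).1 = (C.e.symm v).1)
    ⟨fun _ => rfl, Eq.symm, Eq.trans⟩ hinv with h | h
  · have := h (C.e (0, 0)) (C.e (0, 1)) (by simp)
    exact one_ne_zero' (p := p) (by simpa using (C.e.injective this).symm)
  · have := h (C.e (0, 0)) (C.e (1, 0))
    simp at this

/-- The transform of the averaged matrix does not vanish. -/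
theorem Cyc.avg_ne_zero [MulAction.IsPretransitive G α] (hprim : MulAction.IsPreprimitive G α) :
    C.ft C.avg ≠ 0 := by
  intro h0
  have hc : ∀ i j d, C.cf C.avg i j d = C.cf C.avg i j 0 := fun i j d =>
    const_of_hat (by rw [← C.ft_apply, h0]; rfl) d
  have h00 : C.cf C.avg 0 0 0 = Nat.card G := C.avg_diag _
  have h11 : C.cf C.avg 1 1 0 = Nat.card G := C.avg_diag _
  have hp : (p : ℚ) ≠ 0 := by exact_mod_cast (Fact.out : p.Prime).ne_zero
  have hr := C.tot_row C.avg_inv 0
  have hd' := (C.tot_diag C.avg_inv).2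
  simp only [Cyc.tot, hc _ _ _, sum_const, card_univ, ZMod.card, nsmul_eq_mul, h00, C.deg_avg] at hr hd'
  have h01 : C.cf C.avg 0 1 0 = -(Nat.card G : ℚ) := by
    rw [← mul_add, mul_eq_zero] at hr
    linarith [hr.resolve_left hp]
  have h10 : C.cf C.avg 1 0 0 = -(Nat.card G : ℚ) := by rw [mul_left_cancel₀ hp hd', h01]
  have key : ∀ u v, C.avg u v = (Nat.card G : ℚ) ↔ (C.e.symm u).1 = (C.e.symm v).1 := by
    intro u v
    obtain ⟨⟨i, a⟩, rfl⟩ := C.e.surjective u
    obtain ⟨⟨j, c⟩, rfl⟩ := C.e.surjective v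
    rw [C.apply_eq C.avg_inv, hc]
    have hG : (0 : ℚ) < Nat.card G := by exact_mod_cast Nat.card_pos
    fin_cases i <;> fin_cases j <;> simp [h00, h01, h10, h11] <;> linarith
  exact C.not_same hprim fun g u v e => by
    rw [← key] at e ⊢
    rw [C.avg_inv g u v]; exact e

/-- A nondegenerate transform forces double transitivity. -/
theorem Cyc.two_trans_of_det [MulAction.IsPretransitive G α] (hprim : MulAction.IsPreprimitive G α)
    (hd : (C.ft C.avg).det ≠ 0) : MulAction.IsMultiplyPretransitive G α 2 := by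
  have hb := C.ne_one_zero
  refine C.two_trans hb fun v hv => ?_
  set M := C.orb (C.e (1, 0)) with hMdef
  have hM : Inv G α M := C.orb_inv _
  have hX : C.ft M = (C.th M : ℂ) • 1 := by
    have h := C.ft_sub_th_mul hM
    have h' := congrArg (· * (C.ft C.avg)⁻¹) h
    simp only [Matrix.mul_assoc, Matrix.mul_nonsing_inv _ (isUnit_iff_ne_zero.2 hd), mul_one, zero_mul] at h'
    exact sub_eq_zero.1 h'
  have hdiag : ∀ i d, d ≠ 0 → C.cf M i i d = -C.th M := fun i d hd0 => by
    have h1 := diff_of_hat (f := C.cf M i i) (g := dlt (C.th M)) (by rw [hat_dlt, ← C.ft_apply, hX]; simp) d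
    have h2 : C.cf M i i 0 = 0 := if_neg (C.R_self hb)
    simpa [dlt, hd0, h2] using h1
  have hoff : ∀ i j, i ≠ j → ∀ d, C.cf M i j d = C.cf M i j 0 := fun i j hij d =>
    const_of_hat (by rw [← C.ft_apply, hX]; simp [hij]) d
  have h01 : C.cf M 0 1 0 = 1 := C.orb_base _
  have h10 : C.cf M 1 0 0 = 1 := by
    have hd' := (C.tot_diag hM).2
    simp only [Cyc.tot, hoff 0 1 zero_ne_one, hoff 1 0 one_ne_zero, sum_const, card_univ, ZMod.card, nsmul_eq_mul] at hd'
    rw [mul_left_cancel₀ (by exact_mod_cast (Fact.out : p.Prime).ne_zero) hd', h01]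
  have hcross : ∀ u w, (C.e.symm u).1 ≠ (C.e.symm w).1 → M u w = 1 := by
    intro u w
    obtain ⟨⟨i, a⟩, rfl⟩ := C.e.surjective u
    obtain ⟨⟨j, c⟩, rfl⟩ := C.e.surjective w
    intro hij
    simp only [Equiv.symm_apply_apply] at hij
    rw [C.apply_eq hM, hoff i j hij]
    fin_cases i <;> fin_cases j <;> first | exact absurd rfl hij | exact h01 | exact h10
  by_cases hK : C.cf M 0 0 1 = 1
  · have hall : ∀ u w, u ≠ w → M u w = 1 := by
      intro u w huw
      by_cases hij : (C.e.symm u).1 = (C.e.symm w).1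
      · obtain ⟨⟨i, a⟩, rfl⟩ := C.e.surjective u
        obtain ⟨⟨j, c⟩, rfl⟩ := C.e.surjective w
        simp only [Equiv.symm_apply_apply] at hij
        subst hij
        rw [C.apply_eq hM, hdiag i _ (sub_ne_zero.2 fun e => huw (by rw [e])), ← hdiag 0 1 one_ne_zero', hK]
      · exact hcross u w hij
    have := hall _ v hv.symm
    rw [hMdef, C.orb_apply] at this
    by_contra hR
    rw [if_neg hR] at this
    exact zero_ne_one this
  · have h0 : -C.th M = 0 := by
      rw [← hdiag 0 1 one_ne_zero']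
      exact (C.cf_cases _ 0 1).resolve_right hK
    have hsame : ∀ u w, (C.e.symm u).1 = (C.e.symm w).1 ↔ M u w = 0 := by
      intro u w
      refine ⟨fun hij => ?_, fun h => by_contra fun hij => zero_ne_one (h.symm.trans (hcross u w hij))⟩
      obtain ⟨⟨i, a⟩, rfl⟩ := C.e.surjective u
      obtain ⟨⟨j, c⟩, rfl⟩ := C.e.surjective w
      simp only [Equiv.symm_apply_apply] at hij
      subst hij
      rw [C.apply_eq hM]
      rcases eq_or_ne (c - a) 0 with e | e
      · rw [e]; exact if_neg (C.R_self hb)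
      · rw [hdiag i _ e, h0]
    exact (C.not_same hprim fun g u w e => by rw [hsame] at e ⊢; rw [hM g u w]; exact e).elim

section Degenerate

variable [MulAction.IsPretransitive G α] (hprim : MulAction.IsPreprimitive G α) (hd : (C.ft C.avg).det = 0)
  (hne : C.ft C.avg ≠ 0)

include hprim hd hne

/-- No orbital avoids both cycles. -/
theorem Cyc.dia_ne_zero {b : α} (hb : b ≠ C.e (0, 0)) : ∃ d, C.dia (C.orb b) d ≠ 0 := by
  by_contra! h
  have hs := C.sum_dia (C.orb_inv b)
  have hk := C.key_self hd hne hb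
  simp only [h, sum_const_zero, zero_pow, ne_eq, OfNat.ofNat_ne_zero, not_false_eq_true, add_zero] at hs hk
  have hk1 := C.deg_pos b
  have hth : C.th (C.orb b) = -C.deg (C.orb b) := by linarith
  rw [hth, neg_sq] at hk
  have hdeg : C.deg (C.orb b) = 1 := by nlinarith
  -- the orbital is a matching
  obtain ⟨g, hg⟩ := MulAction.exists_smul_eq G b (C.e (0, 0))
  have hR' : C.R (g • C.e (0, 0)) b (C.e (0, 0)) :=
    ⟨g⁻¹, inv_smul_eq_iff.2 hg.symm, inv_smul_smul g _⟩
  have hsym : C.R b (C.e (0, 0)) (g • C.e (0, 0)) := by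
    by_contra hn
    have hb' : g • C.e (0, 0) ≠ C.e (0, 0) := fun e => hb (MulAction.injective g (hg.trans e.symm))
    have hTr : (C.orb b)ᵀ = C.orb (g • C.e (0, 0)) := by
      ext u v
      rw [transpose_apply, C.orb_apply, C.orb_apply]
      refine if_congr ⟨?_, ?_⟩ rfl rfl
      · rintro ⟨h, h1, h2⟩
        exact ⟨h * g⁻¹, by rw [mul_smul, ← hg, inv_smul_smul, h2], by rw [mul_smul, inv_smul_smul, h1]⟩
      · rintro ⟨h, h1, h2⟩
        exact ⟨h * g, by rw [mul_smul, h2], by rw [mul_smul, hg, h1]⟩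
    have h2 := C.key_ne hd hne hb hb' hn
    simp only [h, zero_mul, sum_const_zero, add_zero, ← hTr, C.th_transpose (C.orb_inv b), hth, hdeg] at h2
    norm_num at h2
  have hswap : ∀ u v, C.R b u v → C.R b v u := by
    rintro u v ⟨k, rfl, rfl⟩
    rw [C.R_smul]
    obtain ⟨k', h1, h2⟩ := hsym
    exact ⟨g⁻¹ * k', by rw [mul_smul, h1, ← hg, inv_smul_smul], by rw [mul_smul, h2, inv_smul_smul]⟩
  have hone : ∀ u v w, C.R b u v → C.R b u w → v = w := by
    intro u v w h1 h2
    by_contra hvw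
    have := C.row (C.orb_inv b) u
    rw [hdeg] at this
    have hle : ∑ t ∈ ({v, w} : Finset α), C.orb b u t ≤ ∑ t, C.orb b u t :=
      sum_le_sum_of_subset_of_nonneg (subset_univ _) fun t _ _ => by
        rcases C.orb_cases b u t with e | e <;> simp [e]
    rw [sum_pair hvw, C.orb_apply, C.orb_apply, if_pos h1, if_pos h2, this] at hle
    norm_num at hle
  have hEq : Equivalence fun u v => u = v ∨ C.R b u v := by
    refine ⟨fun u => Or.inl rfl, fun {u v} huv => huv.imp Eq.symm (hswap u v), fun {u v w} h1 h2 => ?_⟩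
    rcases h1 with rfl | h1
    · exact h2
    rcases h2 with rfl | h2
    · exact Or.inr h1
    exact Or.inl (hone v u w (hswap u v h1) h2)
  rcases rel_trivial hprim _ hEq (fun k u v huv => huv.imp (congrArg _) (C.R_smul k).2) with h' | h'
  · exact hb (h' (C.e (0, 0)) b (Or.inr ⟨1, one_smul _ _, one_smul _ _⟩)).symm
  · have h3 : ∀ v, v ≠ C.e (0, 0) → v = b := fun v hv =>
      hone _ _ _ ((h' (C.e (0, 0)) v).resolve_left hv.symm) ⟨1, one_smul _ _, one_smul _ _⟩
    have hle : Finset.univ ⊆ ({C.e (0, 0), b} : Finset α) := fun v _ => by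
      by_cases hv : v = C.e (0, 0) <;> simp [hv]
      exact h3 v hv
    have := (card_le_card hle).trans card_le_two
    rw [card_univ, C.card_eq] at this
    have := (Fact.out : p.Prime).two_le
    omega

/-- If one orbital looks the same on both cycles then all do. -/
theorem Cyc.all_two {b : α} (hb : b ≠ C.e (0, 0)) (hT : C.Two b) :
    MulAction.IsMultiplyPretransitive G α 2 ∨ ∀ b', C.Two b' := by
  obtain ⟨c, hc⟩ := C.exists_smul hd hne (C.orb_inv b)
  rcases eq_or_ne c 0 with rfl | hc0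
  · left
    rw [zero_smul, sub_eq_zero] at hc
    have h : ∀ d, d ≠ 0 → C.dia (C.orb b) d = -2 * C.th (C.orb b) := fun d hd0 => by
      have := diff_of_hat (f := C.dia (C.orb b)) (g := dlt (2 * C.th (C.orb b))) (by
        rw [C.hat_dia, hat_dlt, hc, trace_smul, trace_one]; simp [mul_comm]) d
      simpa [dlt, hd0, C.dia_zero hb] using this
    rcases C.two_th hd hne hb hT with e | e
    · obtain ⟨d, hd0⟩ := C.dia_ne_zero hprim hd hne hb
      rcases eq_or_ne d 0 with rfl | hne0
      · exact absurd (C.dia_zero hb) hd0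
      · exact absurd (by rw [h d hne0, e, mul_zero]) hd0
    refine C.two_trans hb fun v hv => by_contra fun hR => ?_
    obtain ⟨d, hd0⟩ := C.dia_ne_zero hprim hd hne hv
    refine hd0 ?_
    rcases eq_or_ne d 0 with rfl | hne0
    · exact C.dia_zero hv
    have h2 := h d hne0
    rw [e] at h2
    have hi : ∀ i, C.cf (C.orb b) i i d = 1 → C.cf (C.orb v) i i d = 0 := fun i h1 => by
      simp only [Cyc.cf, C.orb_apply, ite_eq_left_iff, zero_ne_one, imp_false, not_not, ite_eq_right_iff, one_ne_zero]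
        at h1 ⊢
      exact fun h => hR (C.R_unique h1 h)
    rcases C.cf_cases b 0 d with e0 | e0 <;> rcases C.cf_cases b 1 d with e1 | e1 <;>
      simp only [Cyc.dia, Pi.add_apply, e0, e1] at h2 <;> norm_num at h2
    simp [Cyc.dia, hi 0 e0, hi 1 e1]
  · right
    have hA : (C.ft C.avg).adjugate 0 0 = (C.ft C.avg).adjugate 1 1 := by
      have h0 := congrFun (congrFun hc 0) 0
      have h1 := congrFun (congrFun hc 1) 1
      simp only [Matrix.sub_apply, Matrix.smul_apply, one_apply_eq, C.ft_apply, smul_eq_mul] at h0 h1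
      rw [show C.cf (C.orb b) 0 0 = C.cf (C.orb b) 1 1 from funext hT, h1] at h0
      exact (mul_left_cancel₀ hc0 h0).symm
    intro b' d
    obtain ⟨c', hc'⟩ := C.exists_smul hd hne (C.orb_inv b')
    have h0 := congrFun (congrFun hc' 0) 0
    have h1 := congrFun (congrFun hc' 1) 1
    simp only [Matrix.sub_apply, Matrix.smul_apply, one_apply_eq, C.ft_apply, smul_eq_mul, hA] at h0 h1
    have := diff_of_hat (f := C.cf (C.orb b') 0 0) (g := C.cf (C.orb b') 1 1) (by linear_combination h0 - h1) d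
    have e : C.cf (C.orb b') 0 0 0 = C.cf (C.orb b') 1 1 0 := by
      simp only [Cyc.cf, C.orb_apply]
      refine if_congr ?_ rfl rfl
      obtain ⟨g, hg⟩ := MulAction.exists_smul_eq G (C.e (0, 0)) (C.e (1, 0))
      rw [← hg, C.R_smul]
    linarith

/-- Not every orbital looks the same on both cycles. -/
theorem Cyc.not_all_two (hall : ∀ b, C.Two b) : False := by
  set a₀ := C.e (0, 0) with ha₀
  have hG : (Nat.card G : ℚ) ≠ 0 := by exact_mod_cast Nat.card_pos.ne'
  -- the eigenvalue of the averaged matrix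
  have hσ : C.th C.avg = 2 * Nat.card G := by
    have hsq := C.mul_avg C.avg_inv
    have hS : C.ft C.avg * C.ft C.avg = (C.ft C.avg).trace • C.ft C.avg := by
      have h := hd
      rw [det_fin_two] at h
      ext i j
      fin_cases i <;> fin_cases j <;> simp [mul_apply, trace_fin_two] <;> grind
    have h1 : (C.ft C.avg).trace = (C.th C.avg : ℂ) := by
      have h2 : (C.ft C.avg).trace • C.ft C.avg = (C.th C.avg : ℂ) • C.ft C.avg := by
        rw [← hS, ← C.ft_mul _ C.avg_inv, hsq, C.ft_smul]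
      exact smul_left_injective ℂ hne h2
    have h3 := eq_of_hat (f := C.dia C.avg) (g := dlt (C.th C.avg)) (by rw [C.hat_dia, hat_dlt, h1])
      (by rw [C.sum_dia C.avg_inv, C.deg_avg, zero_add]; simp [dlt])
    simp only [Cyc.dia, Pi.add_apply, Cyc.cf, C.avg_diag, dlt, if_true] at h3
    linarith
  have hs : ∀ v, C.deg (C.orb v) * C.avg a₀ v = C.th (C.orb v) * Nat.card G := fun v => by
    have h := congrFun (congrFun (C.mul_avg (C.orb_inv v)) a₀) a₀
    rw [Matrix.smul_apply, C.avg_diag, mul_apply, smul_eq_mul] at h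
    rw [← h, Cyc.deg, Finset.sum_mul]
    refine sum_congr rfl fun t _ => ?_
    rw [← ha₀, C.orb_apply]
    split
    · next hR =>
      obtain ⟨g, h1, h2⟩ := hR
      rw [one_mul, one_mul, ← Matrix.transpose_apply C.avg, C.avg_symm]
      calc C.avg v a₀ = C.avg (g • v) (g • a₀) := (C.avg_inv g v a₀).symm
        _ = _ := by rw [ha₀, h1, h2]
    · simp
  have hS : C.th C.avg = ∑ v, C.avg a₀ v * C.w v := rfl
  have hw0 : C.w a₀ = 1 := by simp [a₀, C.w_e]
  by_cases h : ∃ b, b ≠ a₀ ∧ C.th (C.orb b) = -1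
  · obtain ⟨b, hb, hth⟩ := h
    have hzero : ∀ v, v ≠ a₀ → ¬ C.R b a₀ v → C.avg a₀ v = 0 := by
      intro v hv hR
      rcases C.two_th hd hne hv (hall v) with e | e
      · have := hs v
        rw [e, zero_mul, mul_eq_zero] at this
        exact this.resolve_left (by linarith [C.deg_pos v])
      · have h2 := C.key_ne hd hne hb hv hR
        rw [hth, e] at h2
        have : (0 : ℚ) ≤ ∑ d, C.dia (C.orb b) d * C.dia (C.orb v) d :=
          sum_nonneg fun d _ => mul_nonneg (C.dia_nonneg _ _) (C.dia_nonneg _ _)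
        linarith
    have hsb : ∀ v, C.avg a₀ v * C.w v =
        (if v = a₀ then (Nat.card G : ℚ) else 0) + C.avg a₀ b * (C.orb b a₀ v * C.w v) := by
      intro v
      by_cases hv : v = a₀
      · subst hv
        rw [if_pos rfl, C.avg_diag, hw0, show C.orb b a₀ a₀ = 0 from if_neg (C.R_self hb)]
        ring
      rw [if_neg hv, zero_add, C.orb_apply]
      split
      · next hR =>
        obtain ⟨g, h1, h2⟩ := hR
        conv_lhs => rw [← h2, ← h1, C.avg_inv]
        rw [one_mul]
        congr 1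
        rw [h2]
      · next hR => rw [hzero v hv hR]; ring
    rw [hS, sum_congr rfl fun v _ => hsb v, sum_add_distrib, sum_ite_eq', if_pos (mem_univ _), ← mul_sum,
      show ∑ v, C.orb b a₀ v * C.w v = C.th (C.orb b) from rfl, hth] at hσ
    have hk := hs b
    rw [hth, show C.avg a₀ b = -(Nat.card G : ℚ) by linarith, mul_neg, neg_one_mul, neg_inj] at hk
    have hk1 : C.deg (C.orb b) = 1 := mul_right_cancel₀ hG (by rw [hk, one_mul])
    have h2 := C.key_self hd hne hb
    rw [hk1, hth] at h2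
    have h3 : ∑ d, C.dia (C.orb b) d ^ 2 = 0 := by linarith
    obtain ⟨d, hd0⟩ := C.dia_ne_zero hprim hd hne hb
    exact hd0 (pow_eq_zero_iff two_ne_zero |>.1 ((sum_eq_zero_iff_of_nonneg fun i _ => sq_nonneg _).1 h3 d (mem_univ _)))
  · push Not at h
    rw [hS, sum_eq_single a₀ (fun v _ hv => by
      have := hs v
      rw [(C.two_th hd hne hv (hall v)).resolve_right (h v hv), zero_mul, mul_eq_zero] at this
      rw [this.resolve_left (by linarith [C.deg_pos v]), zero_mul]) (by simp), C.avg_diag, hw0] at hσ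
    exact hG (by linarith)

end Degenerate

/-- The computation in the rank three case. -/
theorem Cyc.half [MulAction.IsPretransitive G α] (hd : (C.ft C.avg).det = 0) (hne : C.ft C.avg ≠ 0) {b b' : α}
    (hb : b ≠ C.e (0, 0)) (hb' : b' ≠ C.e (0, 0)) (hR : ¬ C.R b (C.e (0, 0)) b')
    (hcov : ∀ v, v ≠ C.e (0, 0) → C.R b (C.e (0, 0)) v ∨ C.R b' (C.e (0, 0)) v) (hT : ¬ C.Two b) :
    2 * C.th (C.orb b) * (C.th (C.orb b) + 1) = (p : ℚ) - 1 ∧
      C.deg (C.orb b) = 2 * C.th (C.orb b) ^ 2 + C.th (C.orb b) := by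
  set a₀ := C.e (0, 0) with ha₀
  set M := C.orb b with hMdef
  have hM : Inv G α M := C.orb_inv b
  have hM2 := hM.mul hM
  let J : Matrix α α ℚ := Matrix.of fun _ _ => 1
  have hJ : Inv G α J := fun _ _ _ => rfl
  set x := (M * M) a₀ a₀
  set y := (M * M) a₀ b
  set z := (M * M) a₀ b'
  have hcomb : M * M = (x - z) • (1 : Matrix α α ℚ) + (y - z) • M + z • J := by
    ext u v
    obtain ⟨g, hg⟩ := MulAction.exists_smul_eq G u a₀
    have hI : Inv G α (1 : Matrix α α ℚ) := fun g u v => by simp [one_apply]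
    rw [← hM2 g u v, Matrix.add_apply, Matrix.add_apply, Matrix.smul_apply, Matrix.smul_apply, Matrix.smul_apply,
      ← hI g u v, ← hM g u v, hg]
    generalize g • v = w
    simp only [J, Matrix.of_apply, smul_eq_mul, one_apply]
    by_cases hw : a₀ = w
    · subst hw
      rw [if_pos rfl, show M a₀ a₀ = 0 from if_neg (C.R_self hb)]
      ring
    rw [if_neg hw]
    rcases hcov w (Ne.symm hw) with h | h
    · rw [show M a₀ w = 1 from if_pos h]
      obtain ⟨k, h1, h2⟩ := h
      rw [← h2, ← h1, hM2 k]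
      ring
    · rw [show M a₀ w = 0 from if_neg fun h' => hR (C.R_unique h' h)]
      obtain ⟨k, h1, h2⟩ := h
      rw [← h2, ← h1, hM2 k]
      ring
  have hftJ : C.ft J = 0 := by
    ext i j
    simp only [C.ft_apply, hat, Cyc.cf, J, Matrix.of_apply, Rat.cast_one, one_mul, Matrix.zero_apply, chi]
    rw [← zeta_spec.geom_sum_eq_zero (Fact.out : p.Prime).one_lt, ← Fin.sum_univ_eq_sum_range (fun i => zeta p ^ i)]
    exact Fintype.sum_equiv (ZMod.finEquiv p).toEquiv.symm _ _ fun d => by
      obtain ⟨n, hn⟩ : ∃ n, p = n + 1 := ⟨p - 1, (Nat.succ_pred (Fact.out : p.Prime).ne_zero).symm⟩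
      subst hn
      rfl
  set θ := C.th M
  have hθ : θ * θ = (x - z) + (y - z) * θ := by
    have h := C.th_mul (M := M) hM
    rw [hcomb] at h
    have e : C.th ((x - z) • (1 : Matrix α α ℚ) + (y - z) • M + z • J) = (x - z) + (y - z) * θ := by
      have e1 : C.th J = 0 := by simp [Cyc.th, J, C.sum_w]
      have e2 : C.th (1 : Matrix α α ℚ) = 1 := by simp [Cyc.th, one_apply, C.w_e]
      simp only [Cyc.th, Matrix.add_apply, Matrix.smul_apply, smul_eq_mul, add_mul, mul_assoc, sum_add_distrib,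
        ← mul_sum]
      rw [show ∑ v, (1 : Matrix α α ℚ) (C.e (0, 0)) v * C.w v = 1 from e2,
        show ∑ v, J (C.e (0, 0)) v * C.w v = 0 from e1]
      simp [θ, Cyc.th]
    rw [← h, e]
  obtain ⟨c, hc⟩ := C.exists_smul hd hne hM
  set X := C.ft M - (θ : ℂ) • 1 with hX
  have hquad : X * X = ((y - z - 2 * θ : ℚ) : ℂ) • X := by
    have h := congrArg C.ft hcomb
    rw [C.ft_mul M hM, C.ft_add, C.ft_add, C.ft_smul, C.ft_smul, C.ft_smul, C.ft_one, hftJ, smul_zero, add_zero] at h
    rw [hX]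
    simp only [sub_mul, mul_sub, smul_mul_assoc, mul_smul_comm, one_mul, mul_one, h]
    have e : (θ : ℂ) * θ = ((x - z : ℚ) : ℂ) + ((y - z : ℚ) : ℂ) * θ := by exact_mod_cast hθ
    push_cast at e ⊢
    linear_combination (norm := module) (-e) • (1 : Matrix (Fin 2) (Fin 2) ℂ)
  obtain ⟨r, hr⟩ : ∃ r : ℚ, X.trace = (r : ℂ) := by
    rcases eq_or_ne X 0 with h0 | h0
    · exact ⟨0, by simp [h0]⟩
    refine ⟨y - z - 2 * θ, smul_left_injective ℂ h0 ?_⟩
    show X.trace • X = ((y - z - 2 * θ : ℚ) : ℂ) • X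
    rw [← hquad]
    have hA : (C.ft C.avg).adjugate.det = 0 := by rw [det_adjugate, hd]; simp
    rw [det_fin_two] at hA
    rw [hc]
    ext i j
    fin_cases i <;> fin_cases j <;> simp [mul_apply, trace_fin_two] <;> grind
  have hK : ∀ d, d ≠ 0 → C.dia M d = -(r + 2 * θ) := fun d hd0 => by
    have := diff_of_hat (f := C.dia M) (g := dlt (r + 2 * θ)) (by
      rw [C.hat_dia, hat_dlt]
      rw [hX, trace_sub, trace_smul, trace_one, Fintype.card_fin, smul_eq_mul] at hr
      push_cast at hr ⊢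
      linear_combination hr) d
    simpa [dlt, hd0, hMdef, C.dia_zero hb] using this
  have hcf0 : ∀ i, C.cf M i i 0 = 0 := fun i => if_neg (C.R_self hb)
  have hK1 : ∀ d, d ≠ 0 → (C.cf M 0 0 d - C.cf M 1 1 d) ^ 2 = 1 ∧ C.dia M d = 1 := by
    obtain ⟨e, he⟩ := not_forall.1 hT
    have he0 : e ≠ 0 := fun h => he (by rw [h, ← hMdef, hcf0, hcf0])
    intro d hd0
    have h1 := hK d hd0
    rw [← hK e he0] at h1
    simp only [Cyc.dia, Pi.add_apply, hMdef] at h1 ⊢
    rcases C.cf_cases b 0 d with a | a <;> rcases C.cf_cases b 1 d with a' | a' <;>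
      rcases C.cf_cases b 0 e with c0 | c0 <;> rcases C.cf_cases b 1 e with c1 | c1 <;>
      simp_all
  have hsum : ∀ f : ZMod p → ℚ, f 0 = 0 → (∀ d, d ≠ 0 → f d = 1) → ∑ d, f d = (p : ℚ) - 1 := fun f h0 h1 => by
    rw [← Finset.add_sum_erase _ _ (mem_univ (0 : ZMod p)), h0, zero_add,
      sum_congr rfl fun d hd => h1 d (ne_of_mem_erase hd), sum_const, card_erase_of_mem (mem_univ _), card_univ,
      ZMod.card, nsmul_eq_mul, mul_one, Nat.cast_sub (Fact.out : p.Prime).one_le, Nat.cast_one]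
  have h1 := hsum (fun d => (C.cf M 0 0 d - C.cf M 1 1 d) ^ 2) (by simp [hcf0]) (fun d h => (hK1 d h).1)
  have h2 := hsum (C.dia M) (C.dia_zero hb) (fun d h => (hK1 d h).2)
  rw [hMdef, C.dev hd hne hb] at h1
  rw [C.sum_dia hM] at h2
  exact ⟨h1, by linarith⟩

/-- Wielandt's theorem for an element made of two cycles. -/
theorem Cyc.main (hprim : MulAction.IsPreprimitive G α) :
    MulAction.IsMultiplyPretransitive G α 2 ∨
      (Nat.card (MulAction.orbitRel.Quotient (MulAction.stabilizer G (C.e (0, 0))) α) = 3 ∧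
        ∃ a : ℕ, 0 < a ∧ p = 2 * a ^ 2 + 2 * a + 1 ∧ ∀ b : α, b ≠ C.e (0, 0) →
          Nat.card (MulAction.orbit (MulAction.stabilizer G (C.e (0, 0))) b) = a * (2 * a + 1) ∨
          Nat.card (MulAction.orbit (MulAction.stabilizer G (C.e (0, 0))) b) = (a + 1) * (2 * a + 1)) := by
  haveI : MulAction.IsPretransitive G α := hprim.toIsPretransitive
  have hne := C.avg_ne_zero hprim
  by_cases hd : (C.ft C.avg).det = 0
  swap
  · exact Or.inl (C.two_trans_of_det hprim hd)
  by_cases hT : ∃ b, b ≠ C.e (0, 0) ∧ C.Two b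
  · obtain ⟨b, hb, hb2⟩ := hT
    exact (C.all_two hprim hd hne hb hb2).imp id fun h => (C.not_all_two hprim hd hne h).elim
  push Not at hT
  set a₀ := C.e (0, 0) with ha₀
  have hb : C.e (1, 0) ≠ a₀ := C.ne_one_zero
  generalize C.e (1, 0) = b at hb
  by_cases h1 : ∀ v, v ≠ a₀ → C.R b a₀ v
  · exact Or.inl (C.two_trans hb h1)
  push Not at h1
  obtain ⟨b', hb', hR⟩ := h1
  right
  have hneg : ∀ u v, u ≠ a₀ → v ≠ a₀ → ¬ C.R u a₀ v → C.th (C.orb u) * C.th (C.orb v) < 0 := by
    intro u v hu hv h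
    have h2 := C.key_ne hd hne hu hv h
    have : (0 : ℚ) ≤ ∑ d, C.dia (C.orb u) d * C.dia (C.orb v) d :=
      sum_nonneg fun d _ => mul_nonneg (C.dia_nonneg _ _) (C.dia_nonneg _ _)
    have h0u : C.th (C.orb u) ≠ 0 := fun e => by
      have := C.not_two_th hd hne hu (hT u hu); rw [e] at this; simp at this
    have h0v : C.th (C.orb v) ≠ 0 := fun e => by
      have := C.not_two_th hd hne hv (hT v hv); rw [e] at this; simp at this
    rcases lt_or_gt_of_ne (mul_ne_zero h0u h0v) with h3 | h3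
    · exact h3
    · nlinarith
  have hcov : ∀ v, v ≠ a₀ → C.R b a₀ v ∨ C.R b' a₀ v := by
    intro v hv
    by_contra! h
    have := hneg b b' hb hb' hR
    have := hneg b v hb hv h.1
    have := hneg b' v hb' hv h.2
    nlinarith [mul_neg_of_neg_of_pos ‹C.th (C.orb b) * C.th (C.orb b') < 0›
      (mul_pos_of_neg_of_neg ‹C.th (C.orb b) * C.th (C.orb v) < 0› ‹C.th (C.orb b') * C.th (C.orb v) < 0›),
      sq_nonneg (C.th (C.orb b) * C.th (C.orb b') * C.th (C.orb v))]
  have hR' : ¬ C.R b' a₀ b := fun h => by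
    obtain ⟨g, h1, h2⟩ := h
    exact hR ⟨g⁻¹, by rw [inv_smul_eq_iff, h1], by rw [inv_smul_eq_iff, h2]⟩
  obtain ⟨e1, k1⟩ := C.half hd hne hb hb' hR hcov (hT b hb)
  obtain ⟨e2, k2⟩ := C.half hd hne hb' hb hR' (fun v hv => (hcov v hv).symm) (hT b' hb')
  obtain ⟨t, ht⟩ : ∃ t : ℤ, C.th (C.orb b) = t :=
    ⟨∑ v, (if C.R b a₀ v then (if (C.e.symm v).1 = 0 then 1 else -1) else 0), by
      push_cast
      exact sum_congr rfl fun v _ => by rw [C.orb_apply, Cyc.w]; split <;> simp⟩
  rw [ht] at e1 k1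
  obtain ⟨a, ha⟩ : ∃ a : ℕ, t = a ∨ t = -(a : ℤ) - 1 := by
    rcases le_or_gt 0 t with h | h
    · exact ⟨t.toNat, Or.inl (Int.toNat_of_nonneg h).symm⟩
    · exact ⟨(-t - 1).toNat, Or.inr (by rw [Int.toNat_of_nonneg (by omega)]; ring)⟩
  have hpa : p = 2 * a ^ 2 + 2 * a + 1 := by
    have h : (p : ℚ) = 2 * (a : ℚ) ^ 2 + 2 * a + 1 := by
      rcases ha with rfl | rfl <;> push_cast at e1 <;> linarith
    exact_mod_cast h
  have ha0 : 0 < a := by
    rcases Nat.eq_zero_or_pos a with rfl | h
    · simp at hpa; exact absurd hpa (Fact.out : p.Prime).ne_one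
    · exact h
  refine ⟨?_, a, ha0, hpa, fun v hv => ?_⟩
  · let f : Fin 3 → MulAction.orbitRel.Quotient (MulAction.stabilizer G a₀) α := fun i =>
      Quotient.mk'' (![a₀, b, b'] i)
    have hq : ∀ u w, (Quotient.mk'' u : MulAction.orbitRel.Quotient (MulAction.stabilizer G a₀) α) = Quotient.mk'' w ↔
        C.R w a₀ u := fun u w => by
      rw [Quotient.eq'', MulAction.orbitRel_apply, C.mem_orbit_iff]
    have hf : Function.Bijective f := by
      constructor
      · intro i j hij
        have hne0 : ∀ u, u ≠ a₀ → ¬ C.R u a₀ a₀ ∧ ¬ C.R a₀ a₀ u := fun u hu => by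
          refine ⟨C.R_self hu, ?_⟩
          rintro ⟨g, h1, h2⟩
          exact hu (h2.symm.trans h1)
        have hij' := (hq _ _).1 hij
        fin_cases i <;> fin_cases j <;>
          simp only [Fin.isValue, Matrix.cons_val_zero, Matrix.cons_val_one, Matrix.cons_val, Fin.zero_eta, Fin.mk_one,
            Fin.reduceFinMk] at hij' ⊢ <;>
          first
          | rfl
          | exact absurd hij' (hne0 _ hb).1
          | exact absurd hij' (hne0 _ hb).2
          | exact absurd hij' (hne0 _ hb').1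
          | exact absurd hij' (hne0 _ hb').2
          | exact absurd hij' hR
          | exact absurd hij' hR'
      · intro q
        obtain ⟨u, rfl⟩ := Quotient.mk''_surjective q
        by_cases hu : u = a₀
        · exact ⟨0, by rw [hu]; rfl⟩
        rcases hcov u hu with h | h
        · exact ⟨1, ((hq u b).2 h).symm⟩
        · exact ⟨2, ((hq u b').2 h).symm⟩
    rw [← Nat.card_eq_of_bijective f hf, Nat.card_fin]
  · have hval : ∀ s : ℚ, 2 * s * (s + 1) = (p : ℚ) - 1 → ∀ k : ℕ, (k : ℚ) = 2 * s ^ 2 + s →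
        k = a * (2 * a + 1) ∨ k = (a + 1) * (2 * a + 1) := by
      intro s hs k hk
      rw [hpa] at hs
      push_cast at hs
      have : (s - a) * (s + a + 1) = 0 := by linarith
      rcases mul_eq_zero.1 this with h | h
      · left
        rw [show s = a by linarith] at hk
        have : (k : ℚ) = ((a * (2 * a + 1) : ℕ) : ℚ) := by push_cast; linarith
        exact_mod_cast this
      · right
        rw [show s = -(a : ℚ) - 1 by linarith] at hk
        have : (k : ℚ) = (((a + 1) * (2 * a + 1) : ℕ) : ℚ) := by push_cast; linarith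
        exact_mod_cast this
    rcases hcov v hv with h | h <;> rw [MulAction.orbit_eq_iff.2 ((C.mem_orbit_iff _ _).2 h)]
    · exact hval _ e1 _ (by rw [← C.deg_orb, k1])
    · exact hval _ e2 _ (by rw [← C.deg_orb, k2])

end Cfsg.Lib.PermGroups.TwicePrime
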