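import Cfsg.Agent.PermGroups.TwicePrime.Setting

/-!
The orbitals of a primitive group of degree `2 p` with an element made of two cycles of length `p`.
-/

set_option autoImplicit false
set_option linter.unusedSectionVars false

namespace Cfsg.Lib.PermGroups.TwicePrime

open Finset Matrix
open scoped Classical

variable {G : Type*} [Group G] [Fintype G] {α : Type*} [Fintype α] [DecidableEq α] [MulAction G α]
  {p : ℕ} [Fact p.Prime] (C : Cyc G α p)

/-- Two points seen from the base point lie in one orbital. -/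
def Cyc.R (b u v : α) : Prop := ∃ g : G, g • C.e (0, 0) = u ∧ g • b = v

/-- The matrix of an orbital. -/
noncomputable def Cyc.orb (b : α) : Matrix α α ℚ := Matrix.of fun u v => if C.R b u v then 1 else 0

theorem Cyc.orb_apply (b u v : α) : C.orb b u v = if C.R b u v then 1 else 0 := rfl

theorem Cyc.orb_cases (b u v : α) : C.orb b u v = 0 ∨ C.orb b u v = 1 := by
  rw [C.orb_apply]; split <;> simp

theorem Cyc.R_smul {b u v : α} (g : G) : C.R b (g • u) (g • v) ↔ C.R b u v := by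
  constructor
  · rintro ⟨h, h1, h2⟩; exact ⟨g⁻¹ * h, by rw [mul_smul, h1, inv_smul_smul], by rw [mul_smul, h2, inv_smul_smul]⟩
  · rintro ⟨h, h1, h2⟩; exact ⟨g * h, by rw [mul_smul, h1], by rw [mul_smul, h2]⟩

theorem Cyc.orb_inv (b : α) : Inv G α (C.orb b) := fun g u v => by
  rw [C.orb_apply, C.orb_apply]
  simp only [C.R_smul]

theorem Cyc.orb_base (b : α) : C.orb b (C.e (0, 0)) b = 1 :=
  if_pos ⟨1, one_smul _ _, one_smul _ _⟩

theorem Cyc.R_self {b u : α} (hb : b ≠ C.e (0, 0)) : ¬ C.R b u u := fun ⟨g, h1, h2⟩ =>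
  hb (MulAction.injective g (h2.trans h1.symm))

theorem Cyc.mem_orbit_iff (b v : α) :
    v ∈ MulAction.orbit (MulAction.stabilizer G (C.e (0, 0))) b ↔ C.R b (C.e (0, 0)) v := by
  constructor
  · rintro ⟨g, rfl⟩; exact ⟨g.1, g.2, rfl⟩
  · rintro ⟨g, h1, h2⟩; exact ⟨⟨g, h1⟩, h2⟩

/-- Disjointness of orbitals. -/
theorem Cyc.R_unique {b b' u v : α} (h : C.R b u v) (h' : C.R b' u v) : C.R b (C.e (0, 0)) b' := by
  obtain ⟨g, h1, h2⟩ := h
  obtain ⟨g', h1', h2'⟩ := h'
  exact ⟨g'⁻¹ * g, by rw [mul_smul, h1, ← h1', inv_smul_smul], by rw [mul_smul, h2, ← h2', inv_smul_smul]⟩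

theorem Cyc.deg_orb (b : α) :
    C.deg (C.orb b) = Nat.card (MulAction.orbit (MulAction.stabilizer G (C.e (0, 0))) b) := by
  rw [Cyc.deg, Nat.card_eq_fintype_card, Fintype.card_of_subtype (univ.filter (C.R b (C.e (0, 0))))
    (fun v => by rw [Finset.mem_filter, C.mem_orbit_iff]; simp)]
  simp only [C.orb_apply, sum_boole]

theorem Cyc.deg_pos (b : α) : 1 ≤ C.deg (C.orb b) := by
  rw [C.deg_orb, Nat.one_le_cast]
  have : Nonempty (MulAction.orbit (MulAction.stabilizer G (C.e (0, 0))) b) := ⟨⟨b, MulAction.mem_orbit_self b⟩⟩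
  exact Nat.card_pos

theorem Cyc.dia_zero {b : α} (hb : b ≠ C.e (0, 0)) : C.dia (C.orb b) 0 = 0 := by
  simp [Cyc.dia, Cyc.cf, C.orb_apply, C.R_self hb]

theorem Cyc.cf_cases (b : α) (i : Fin 2) (d : ZMod p) :
    C.cf (C.orb b) i i d = 0 ∨ C.cf (C.orb b) i i d = 1 := C.orb_cases _ _ _

theorem Cyc.dia_nonneg (b : α) (d : ZMod p) : 0 ≤ C.dia (C.orb b) d := by
  rcases C.cf_cases b 0 d with h | h <;> rcases C.cf_cases b 1 d with h' | h' <;> simp [Cyc.dia, h, h']

/-- Both cycles look the same. -/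
def Cyc.Two (b : α) : Prop := ∀ d, C.cf (C.orb b) 0 0 d = C.cf (C.orb b) 1 1 d

variable [MulAction.IsPretransitive G α]

/-- A matrix with trivial transform apart from `w`. -/
theorem Cyc.exists_smul (hd : (C.ft C.avg).det = 0) (hne : C.ft C.avg ≠ 0) {M : Matrix α α ℚ} (hM : Inv G α M) :
    ∃ c : ℂ, C.ft M - (C.th M : ℂ) • 1 = c • (C.ft C.avg).adjugate :=
  exists_eq_smul_adjugate hd hne (C.ft_sub_th_mul hM) (C.mul_ft_sub_th hM)

/-- The orthogonality relations. -/
theorem Cyc.key (hd : (C.ft C.avg).det = 0) (hne : C.ft C.avg ≠ 0) {M N : Matrix α α ℚ} (hM : Inv G α M)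
    (hN : Inv G α N) (h0 : C.dia M 0 = 0) (h0' : C.dia N 0 = 0) :
    C.dia (Mᵀ * N) 0 = 2 * C.th M * C.th N + ∑ d, C.dia M d * C.dia N d := by
  obtain ⟨c, hc⟩ := C.exists_smul hd hne hM.transpose
  obtain ⟨c', hc'⟩ := C.exists_smul hd hne hN
  have hA : (C.ft C.avg).adjugate.det = 0 := by rw [det_adjugate, hd]; simp
  have h := trace_mul_of_parallel _ hA c c'
  rw [← hc, ← hc'] at h
  simp only [sub_mul, mul_sub, smul_mul_assoc, mul_smul_comm, one_mul, mul_one, trace_sub, trace_smul, trace_one,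
    Fintype.card_fin, smul_eq_mul, ← C.ft_mul _ hN, ← C.hat_dia, C.th_transpose hM] at h
  have e : hat (C.dia (Mᵀ * N) + C.th N • C.dia Mᵀ + C.th M • C.dia N) =
      hat (conv (C.dia Mᵀ) (C.dia N) + dlt (2 * C.th M * C.th N)) := by
    simp only [hat_add, hat_smul, hat_conv, hat_dlt]
    push_cast at h ⊢
    linear_combination h
  have e0 := eq_of_hat e (by
    have hconv : ∑ d, conv (C.dia Mᵀ) (C.dia N) d = (∑ d, C.dia Mᵀ d) * ∑ d, C.dia N d := by
      simp only [conv]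
      rw [Finset.sum_comm, Finset.sum_mul]
      refine sum_congr rfl fun b _ => ?_
      rw [← mul_sum]
      exact congrArg _ (Fintype.sum_equiv (Equiv.subRight b) _ _ fun _ => rfl)
    simp only [Pi.add_apply, Pi.smul_apply, smul_eq_mul, sum_add_distrib, ← mul_sum, C.sum_dia (hM.transpose.mul hN),
      C.sum_dia hM.transpose, C.sum_dia hN, hconv, C.th_mul hN, C.deg_mul hN, C.th_transpose hM, C.deg_transpose hM,
      dlt, sum_ite_eq', mem_univ, if_true]
    ring)
  have hd0 : C.dia Mᵀ 0 = 0 := by rw [C.dia_transpose hM, neg_zero, h0]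
  simp only [Pi.add_apply, Pi.smul_apply, hd0, h0', smul_eq_mul, mul_zero, add_zero, dlt, if_true, conv, zero_sub,
    C.dia_transpose hM] at e0
  rw [e0, add_comm]
  congr 1
  exact Fintype.sum_equiv (Equiv.neg (ZMod p)) _ _ fun _ => rfl

theorem Cyc.dia_gram (b b' : α) : C.dia ((C.orb b)ᵀ * C.orb b') 0 =
    (∑ t, C.orb b t (C.e (0, 0)) * C.orb b' t (C.e (0, 0))) + ∑ t, C.orb b t (C.e (1, 0)) * C.orb b' t (C.e (1, 0)) := by
  simp [Cyc.dia, Cyc.cf, mul_apply]

theorem Cyc.key_self (hd : (C.ft C.avg).det = 0) (hne : C.ft C.avg ≠ 0) {b : α} (hb : b ≠ C.e (0, 0)) :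
    2 * C.deg (C.orb b) = 2 * C.th (C.orb b) ^ 2 + ∑ d, C.dia (C.orb b) d ^ 2 := by
  have h := C.key hd hne (C.orb_inv b) (C.orb_inv b) (C.dia_zero hb) (C.dia_zero hb)
  have e : ∀ u v, C.orb b u v * C.orb b u v = C.orb b u v := fun u v => by
    rcases C.orb_cases b u v with h | h <;> simp [h]
  simp only [C.dia_gram, e, C.col (C.orb_inv b)] at h
  rw [two_mul, h, mul_assoc, ← pow_two]
  simp only [pow_two]

theorem Cyc.key_ne (hd : (C.ft C.avg).det = 0) (hne : C.ft C.avg ≠ 0) {b b' : α} (hb : b ≠ C.e (0, 0))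
    (hb' : b' ≠ C.e (0, 0)) (h : ¬ C.R b (C.e (0, 0)) b') :
    2 * C.th (C.orb b) * C.th (C.orb b') + ∑ d, C.dia (C.orb b) d * C.dia (C.orb b') d = 0 := by
  rw [← C.key hd hne (C.orb_inv b) (C.orb_inv b') (C.dia_zero hb) (C.dia_zero hb'), C.dia_gram]
  have e : ∀ u v, C.orb b u v * C.orb b' u v = 0 := fun u v => by
    simp only [C.orb_apply]
    split_ifs with h1 h2 <;> simp
    exact h (C.R_unique h1 h2)
  simp [e]

/-- The deviation of the two cycles. -/
theorem Cyc.dev (hd : (C.ft C.avg).det = 0) (hne : C.ft C.avg ≠ 0) {b : α} (hb : b ≠ C.e (0, 0)) :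
    ∑ d, (C.cf (C.orb b) 0 0 d - C.cf (C.orb b) 1 1 d) ^ 2 = 2 * C.th (C.orb b) * (C.th (C.orb b) + 1) := by
  have hpt : ∀ d, (C.cf (C.orb b) 0 0 d - C.cf (C.orb b) 1 1 d) ^ 2 =
      2 * C.dia (C.orb b) d - C.dia (C.orb b) d ^ 2 := fun d => by
    rcases C.cf_cases b 0 d with h | h <;> rcases C.cf_cases b 1 d with h' | h' <;> simp [Cyc.dia, h, h'] <;> norm_num
  rw [sum_congr rfl fun d _ => hpt d, sum_sub_distrib, ← mul_sum, C.sum_dia (C.orb_inv b)]
  have := C.key_self hd hne hb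
  linarith

theorem Cyc.two_th (hd : (C.ft C.avg).det = 0) (hne : C.ft C.avg ≠ 0) {b : α} (hb : b ≠ C.e (0, 0))
    (h : C.Two b) : C.th (C.orb b) = 0 ∨ C.th (C.orb b) = -1 := by
  have e := C.dev hd hne hb
  simp only [h _, sub_self, ne_eq, OfNat.ofNat_ne_zero, not_false_eq_true, zero_pow, sum_const_zero] at e
  rcases mul_eq_zero.1 e.symm with h' | h'
  · exact Or.inl (by linarith)
  · exact Or.inr (by linarith)

theorem Cyc.not_two_th (hd : (C.ft C.avg).det = 0) (hne : C.ft C.avg ≠ 0) {b : α} (hb : b ≠ C.e (0, 0))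
    (h : ¬ C.Two b) : 0 < C.th (C.orb b) * (C.th (C.orb b) + 1) := by
  obtain ⟨d, hd'⟩ := not_forall.1 h
  have e := C.dev hd hne hb
  have := single_le_sum (f := fun d => (C.cf (C.orb b) 0 0 d - C.cf (C.orb b) 1 1 d) ^ 2)
    (fun i _ => sq_nonneg _) (mem_univ d)
  have : 0 < (C.cf (C.orb b) 0 0 d - C.cf (C.orb b) 1 1 d) ^ 2 := sq_pos_of_ne_zero (sub_ne_zero.2 hd')
  nlinarith

theorem rel_trivial (hprim : MulAction.IsPreprimitive G α) (r : α → α → Prop) (heq : Equivalence r)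
    (hinv : ∀ (g : G) u v, r u v → r (g • u) (g • v)) : (∀ u v, r u v → u = v) ∨ ∀ u v, r u v := by
  by_cases hall : ∃ u, ({v | r u v} : Set α) = Set.univ
  · obtain ⟨u, hu⟩ := hall
    exact Or.inr fun v v' => heq.trans (heq.symm (Set.eq_univ_iff_forall.1 hu v)) (Set.eq_univ_iff_forall.1 hu v')
  · refine Or.inl fun u v huv => ?_
    have hblock : MulAction.IsBlock G ({v | r u v} : Set α) := by
      rw [MulAction.isBlock_iff_smul_eq_of_nonempty]
      rintro g ⟨z, ⟨z', hz', rfl⟩, hz⟩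
      ext y
      constructor
      · rintro ⟨y', hy', rfl⟩
        exact heq.trans hz (hinv g _ _ (heq.trans (heq.symm hz') hy'))
      · intro hy
        refine ⟨g⁻¹ • y, ?_, smul_inv_smul g y⟩
        have := hinv g⁻¹ _ _ (heq.trans (heq.symm hz) hy)
        rw [inv_smul_smul] at this
        exact heq.trans hz' this
    rcases hprim.isTrivialBlock_of_isBlock hblock with h | h
    · exact h (heq.refl u) huv
    · exact absurd ⟨u, h⟩ hall

end Cfsg.Lib.PermGroups.TwicePrime
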