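import Cfsg.Agent.PermGroups.TwicePrime.Circulant

/-!
Invariant matrices of a group of degree `2 p` with an element made of two cycles of length `p`.
-/

set_option autoImplicit false
set_option linter.unusedSectionVars false

namespace Cfsg.Lib.PermGroups.TwicePrime

open Finset Matrix

variable (G : Type*) [Group G] (α : Type*) [Fintype α] [DecidableEq α] [MulAction G α]

/-- Matrices fixed by the group. -/
def Inv (M : Matrix α α ℚ) : Prop := ∀ (g : G) (u v : α), M (g • u) (g • v) = M u v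

variable {G α} {p : ℕ} [Fact p.Prime]

theorem Inv.mul {M N : Matrix α α ℚ} (hM : Inv G α M) (hN : Inv G α N) : Inv G α (M * N) := fun g u v => by
  rw [mul_apply, mul_apply]
  refine (Fintype.sum_equiv (MulAction.toPerm g) _ _ fun t => ?_).symm
  simp [hM g u t, hN g t v]

theorem Inv.transpose {M : Matrix α α ℚ} (hM : Inv G α M) : Inv G α Mᵀ := fun g u v => hM g v u

/-- Coordinates for two cycles. -/
structure Cyc (G : Type*) [Group G] (α : Type*) [MulAction G α] (p : ℕ) [Fact p.Prime] where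
  x : G
  e : Fin 2 × ZMod p ≃ α
  hx : ∀ i a, x • e (i, a) = e (i, a + 1)

variable (C : Cyc G α p)

theorem Cyc.pow_smul (n : ℕ) (i : Fin 2) (a : ZMod p) : C.x ^ n • C.e (i, a) = C.e (i, a + n) := by
  induction n with
  | zero => simp
  | succ n ih => rw [pow_succ', mul_smul, ih, C.hx]; push_cast; rw [add_assoc]

/-- The four functions of a matrix. -/
def Cyc.cf (M : Matrix α α ℚ) (i j : Fin 2) : ZMod p → ℚ := fun d => M (C.e (i, 0)) (C.e (j, d))

theorem Cyc.apply_eq {M : Matrix α α ℚ} (hM : Inv G α M) (i j : Fin 2) (a b : ZMod p) :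
    M (C.e (i, a)) (C.e (j, b)) = C.cf M i j (b - a) := by
  rw [Cyc.cf, ← hM (C.x ^ a.val) (C.e (i, 0)), C.pow_smul, C.pow_smul, ZMod.natCast_zmod_val, zero_add,
    sub_add_cancel]

/-- The transform of a matrix. -/
noncomputable def Cyc.ft (M : Matrix α α ℚ) : Matrix (Fin 2) (Fin 2) ℂ := Matrix.of fun i j => hat (C.cf M i j)

theorem Cyc.ft_apply (M : Matrix α α ℚ) (i j : Fin 2) : C.ft M i j = hat (C.cf M i j) := rfl

theorem Cyc.ft_mul (M : Matrix α α ℚ) {N : Matrix α α ℚ} (hN : Inv G α N) : C.ft (M * N) = C.ft M * C.ft N := by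
  ext i k
  have hcf : C.cf (M * N) i k = ∑ j, conv (C.cf M i j) (C.cf N j k) := funext fun c => by
    rw [Finset.sum_apply]
    simp only [Cyc.cf, mul_apply, conv]
    rw [← Equiv.sum_comp C.e, Fintype.sum_prod_type]
    refine sum_congr rfl fun j _ => sum_congr rfl fun b _ => ?_
    rw [C.apply_eq hN j k b c]
    rfl
  rw [C.ft_apply, hcf, mul_apply, Fin.sum_univ_two, Fin.sum_univ_two, hat_add, hat_conv, hat_conv]
  rfl

theorem Cyc.ft_add (M N : Matrix α α ℚ) : C.ft (M + N) = C.ft M + C.ft N := by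
  ext i j
  exact hat_add (C.cf M i j) (C.cf N i j)

theorem Cyc.ft_smul (c : ℚ) (M : Matrix α α ℚ) : C.ft (c • M) = (c : ℂ) • C.ft M := by
  ext i j
  exact hat_smul c (C.cf M i j)

theorem Cyc.ft_one : C.ft (1 : Matrix α α ℚ) = 1 := by
  ext i j
  have h : C.cf (1 : Matrix α α ℚ) i j = if i = j then dlt 1 else 0 := funext fun d => by
    simp only [Cyc.cf, one_apply, C.e.apply_eq_iff_eq, Prod.mk.injEq]
    by_cases hij : i = j <;> simp [hij, dlt, eq_comm]
  rw [C.ft_apply, h, one_apply]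
  split
  · rw [hat_dlt]; norm_num
  · simp [hat]

theorem Cyc.ft_zero : C.ft (0 : Matrix α α ℚ) = 0 := by
  ext i j
  simp [C.ft_apply, hat, Cyc.cf]

/-- The vector separating the two cycles. -/
def Cyc.w : α → ℚ := fun u => if (C.e.symm u).1 = 0 then 1 else -1

theorem Cyc.w_e (i : Fin 2) (a : ZMod p) : C.w (C.e (i, a)) = if i = 0 then 1 else -1 := by
  simp [Cyc.w]

theorem Cyc.sum_w : ∑ u, C.w u = 0 := by
  rw [← Equiv.sum_comp C.e, Fintype.sum_prod_type, Fin.sum_univ_two]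
  simp [C.w_e]

/-- The sum of a row. -/
def Cyc.deg (M : Matrix α α ℚ) : ℚ := ∑ v, M (C.e (0, 0)) v

/-- The eigenvalue of `w`. -/
def Cyc.th (M : Matrix α α ℚ) : ℚ := ∑ v, M (C.e (0, 0)) v * C.w v

section Trans

variable [MulAction.IsPretransitive G α]

theorem Cyc.row {M : Matrix α α ℚ} (hM : Inv G α M) (u : α) : ∑ v, M u v = C.deg M := by
  obtain ⟨g, hg⟩ := MulAction.exists_smul_eq G (C.e (0, 0)) u
  refine (Fintype.sum_equiv (MulAction.toPerm g) _ _ fun v => ?_).symm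
  rw [MulAction.toPerm_apply, ← hg, hM]

theorem Cyc.deg_transpose {M : Matrix α α ℚ} (hM : Inv G α M) : C.deg Mᵀ = C.deg M := by
  have h : ∑ u, ∑ v, Mᵀ u v = ∑ u, ∑ v, M u v := Finset.sum_comm
  simp only [C.row hM, C.row hM.transpose, sum_const, card_univ, nsmul_eq_mul] at h
  exact mul_left_cancel₀ (by exact_mod_cast (Fintype.card_pos_iff.2 ⟨C.e (0, 0)⟩).ne') h

theorem Cyc.col {M : Matrix α α ℚ} (hM : Inv G α M) (v : α) : ∑ u, M u v = C.deg M :=
  (C.row hM.transpose v).trans (C.deg_transpose hM)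

/-- The totals of the four functions. -/
def Cyc.tot (M : Matrix α α ℚ) (i j : Fin 2) : ℚ := ∑ d, C.cf M i j d

theorem Cyc.tot_row {M : Matrix α α ℚ} (hM : Inv G α M) (i : Fin 2) :
    C.tot M i 0 + C.tot M i 1 = C.deg M := by
  rw [← C.row hM (C.e (i, 0)), ← Equiv.sum_comp C.e, Fintype.sum_prod_type, Fin.sum_univ_two]
  rfl

theorem Cyc.tot_col {M : Matrix α α ℚ} (hM : Inv G α M) (j : Fin 2) :
    C.tot M 0 j + C.tot M 1 j = C.deg M := by
  rw [← C.col hM (C.e (j, 0)), ← Equiv.sum_comp C.e, Fintype.sum_prod_type, Fin.sum_univ_two]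
  simp only [C.apply_eq hM, zero_sub, Cyc.tot]
  congr 1 <;> exact (Equiv.sum_comp (Equiv.neg (ZMod p)) _).symm

theorem Cyc.th_eq (M : Matrix α α ℚ) : C.th M = C.tot M 0 0 - C.tot M 0 1 := by
  rw [Cyc.th, ← Equiv.sum_comp C.e, Fintype.sum_prod_type, Fin.sum_univ_two, Cyc.tot, Cyc.tot]
  simp [C.w_e, Cyc.cf, sub_eq_add_neg]

theorem Cyc.tot_diag {M : Matrix α α ℚ} (hM : Inv G α M) :
    C.tot M 1 1 = C.tot M 0 0 ∧ C.tot M 1 0 = C.tot M 0 1 := by
  have := C.tot_row hM 0; have := C.tot_row hM 1; have := C.tot_col hM 0; have := C.tot_col hM 1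
  constructor <;> linarith

theorem Cyc.mulVec_w {M : Matrix α α ℚ} (hM : Inv G α M) (u : α) : ∑ v, M u v * C.w v = C.th M * C.w u := by
  obtain ⟨⟨i, a⟩, rfl⟩ := C.e.surjective u
  rw [← Equiv.sum_comp C.e, Fintype.sum_prod_type, Fin.sum_univ_two]
  simp only [C.apply_eq hM, C.w_e, if_true, Fin.reduceEq, if_false, ← Finset.sum_mul]
  have e : ∀ j : Fin 2, ∑ b, C.cf M i j (b - a) = C.tot M i j := fun j =>
    Fintype.sum_equiv (Equiv.subRight a) _ _ fun b => rfl
  rw [e, e, C.th_eq]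
  have h := C.tot_diag hM
  fin_cases i <;> simp only [Fin.zero_eta, Fin.mk_one, Fin.isValue, if_true, Fin.reduceEq, if_false] <;> linarith

theorem Cyc.th_transpose {M : Matrix α α ℚ} (hM : Inv G α M) : C.th Mᵀ = C.th M := by
  rw [C.th_eq, C.th_eq]
  have e : ∀ i j : Fin 2, C.tot Mᵀ i j = C.tot M j i := fun i j => by
    simp only [Cyc.tot]
    refine Fintype.sum_equiv (Equiv.neg (ZMod p)) _ _ fun d => ?_
    show Mᵀ (C.e (i, 0)) (C.e (j, d)) = _
    rw [transpose_apply, C.apply_eq hM, zero_sub]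
    rfl
  rw [e, e, (C.tot_diag hM).2]

theorem Cyc.th_mul {M N : Matrix α α ℚ} (hN : Inv G α N) : C.th (M * N) = C.th M * C.th N := by
  simp only [Cyc.th, mul_apply, Finset.sum_mul]
  rw [Finset.sum_comm]
  refine sum_congr rfl fun t _ => ?_
  rw [sum_congr rfl fun v _ => mul_assoc (M (C.e (0, 0)) t) (N t v) (C.w v), ← mul_sum, C.mulVec_w hN t]
  simp only [Cyc.th, Finset.sum_mul, Finset.mul_sum]
  refine sum_congr rfl fun v _ => ?_
  ring

theorem Cyc.deg_mul {M N : Matrix α α ℚ} (hN : Inv G α N) : C.deg (M * N) = C.deg M * C.deg N := by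
  simp only [Cyc.deg, mul_apply]
  rw [Finset.sum_comm, Finset.sum_mul]
  refine sum_congr rfl fun t _ => ?_
  rw [← mul_sum, C.row hN t]
  rfl

/-- The diagonal function. -/
def Cyc.dia (M : Matrix α α ℚ) : ZMod p → ℚ := C.cf M 0 0 + C.cf M 1 1

theorem Cyc.hat_dia (M : Matrix α α ℚ) : hat (C.dia M) = (C.ft M).trace := by
  rw [Cyc.dia, hat_add, trace_fin_two]
  rfl

theorem Cyc.sum_dia {M : Matrix α α ℚ} (hM : Inv G α M) : ∑ d, C.dia M d = C.deg M + C.th M := by
  have h : ∑ d, C.dia M d = C.tot M 0 0 + C.tot M 1 1 := by simp [Cyc.dia, Cyc.tot, sum_add_distrib]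
  have := C.tot_row hM 0
  rw [h, (C.tot_diag hM).1, C.th_eq]
  linarith

theorem Cyc.dia_transpose {M : Matrix α α ℚ} (hM : Inv G α M) (d : ZMod p) : C.dia Mᵀ d = C.dia M (-d) := by
  have e : ∀ i, C.cf Mᵀ i i d = C.cf M i i (-d) := fun i => by
    show M (C.e (i, d)) (C.e (i, 0)) = _
    rw [C.apply_eq hM, zero_sub]
  simp [Cyc.dia, e]

section Avg

variable [Fintype G]

/-- The sum of the translates of `w ⊗ w`. -/
def Cyc.avg : Matrix α α ℚ := Matrix.of fun u v => ∑ g : G, C.w (g • u) * C.w (g • v)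

theorem Cyc.avg_inv : Inv G α C.avg := fun h u v => by
  simp only [Cyc.avg, Matrix.of_apply, smul_smul]
  exact Fintype.sum_equiv (Equiv.mulRight h) _ _ fun g => rfl

theorem Cyc.avg_symm : C.avgᵀ = C.avg := by
  ext u v
  simp only [Cyc.avg, transpose_apply, Matrix.of_apply, mul_comm]

theorem Cyc.avg_diag (u : α) : C.avg u u = Nat.card G := by
  have h : ∀ v, C.w v * C.w v = 1 := fun v => by simp only [Cyc.w]; split <;> norm_num
  simp [Cyc.avg, h]

theorem Cyc.deg_avg : C.deg C.avg = 0 := by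
  simp only [Cyc.deg, Cyc.avg, Matrix.of_apply]
  rw [Finset.sum_comm]
  refine sum_eq_zero fun g _ => ?_
  rw [← mul_sum]
  have : ∑ v, C.w (g • v) = ∑ v, C.w v := Fintype.sum_equiv (MulAction.toPerm g) _ _ fun v => rfl
  rw [this, C.sum_w, mul_zero]

theorem Cyc.mul_avg {M : Matrix α α ℚ} (hM : Inv G α M) : M * C.avg = C.th M • C.avg := by
  ext u v
  simp only [mul_apply, Cyc.avg, Matrix.of_apply, Matrix.smul_apply, smul_eq_mul, mul_sum]
  rw [Finset.sum_comm]
  refine sum_congr rfl fun g _ => ?_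
  calc ∑ t, M u t * (C.w (g • t) * C.w (g • v)) = (∑ t, M (g • u) t * C.w t) * C.w (g • v) := by
        rw [Finset.sum_mul]
        exact Fintype.sum_equiv (MulAction.toPerm g) _ _ fun t => by
          rw [MulAction.toPerm_apply, hM, mul_assoc]
    _ = _ := by rw [C.mulVec_w hM, mul_assoc]

theorem Cyc.avg_mul {M : Matrix α α ℚ} (hM : Inv G α M) : C.avg * M = C.th M • C.avg := by
  have h := congrArg Matrix.transpose (C.mul_avg hM.transpose)
  rwa [transpose_mul, transpose_transpose, transpose_smul, C.avg_symm, C.th_transpose hM] at h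

theorem Cyc.ft_sub_th_mul {M : Matrix α α ℚ} (hM : Inv G α M) :
    (C.ft M - (C.th M : ℂ) • 1) * C.ft C.avg = 0 := by
  rw [sub_mul, smul_mul_assoc, one_mul, ← C.ft_mul M C.avg_inv, C.mul_avg hM, C.ft_smul, sub_self]

theorem Cyc.mul_ft_sub_th {M : Matrix α α ℚ} (hM : Inv G α M) :
    C.ft C.avg * (C.ft M - (C.th M : ℂ) • 1) = 0 := by
  rw [mul_sub, mul_smul_comm, mul_one, ← C.ft_mul C.avg hM, C.avg_mul hM, C.ft_smul, sub_self]

end Avg

end Trans

end Cfsg.Lib.PermGroups.TwicePrime
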